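import Cfsg.Agent.H756.HM.Stmts

/-! # S5175: the common identification theorem for `StL` and `StSP`: the data

`IdData F b L j`: the group `T` of a configuration `b : Big F K V T x` is identified by `j` with a Sylow 2-subgroup of the
simple group `L`, compatibly with `b.E`, `Aut_F(T)` and `Aut_F(V)`.
-/
set_option autoImplicit false

namespace Cfsg.Agent.H782.HR

open Cfsg Cfsg.FusionSystem Cfsg.Agent.H756.HM

universe u

/-- identification data -/
structure IdData {Ω : Type u} [Group Ω] {S : Subgroup Ω} (F : FusionSystem S) {K : Type} [Field K] [Fintype K]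
    {V T : Subgroup Ω} {x : Ω} (b : Big F K V T x) (L : Type) [Group L] (j : T →* L) : Prop where
  fin : Finite L
  simple : IsSimpleGroup L
  nonab : ∃ g h : L, g * h ≠ h * g
  inj : Function.Injective j
  syl : ∃ U : Sylow 2 L, (U : Subgroup L) = j.range
  /-- (E) every element of `b.E` is induced by an element of `L` -/
  indE : ∀ e ∈ b.E, ∃ g : L, ∀ (t t' : T) (ht : (t : Ω) ∈ V), (t' : Ω) = (e ⟨t, ht⟩ : V) → j t' = g * j t * g⁻¹
  /-- (E') automorphisms of `V` induced by elements of `L` are in `Aut_F(V)` -/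
  autV : ∀ (g : L) (φ : MulAut V), (∀ (t t' : T) (ht : (t : Ω) ∈ V), (t' : Ω) = (φ ⟨t, ht⟩ : V) → j t' = g * j t * g⁻¹) →
    φ ∈ F.autGroup V
  /-- (T) automorphisms of `T` in `F` are induced by automorphisms of `L` -/
  indT : ∀ φ ∈ F.autGroup T, ∃ α : MulAut L, ∀ t : T, α (j t) = j (φ t)
  /-- (T') automorphisms of `T` induced by elements of `L` are in `F` -/
  autT : ∀ (g : L) (φ : MulAut T), (∀ t : T, j (φ t) = g * j t * g⁻¹) → φ ∈ F.autGroup T
  /-- (C) automorphisms of `L` trivial on the Sylow 2-subgroup are inner, induced by its elements -/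
  triv : ∀ α : MulAut L, (∀ t : T, α (j t) = j t) → ∃ t : T, α = MulAut.conj (j t)
  /-- (H) a complement (torus) `H` of `j T` in its normalizer has no nontrivial fixed points on `j T` -/
  torus : ∃ H : Subgroup L, Odd (Nat.card H) ∧ H ≤ Subgroup.normalizer (j.range : Set L) ∧
    Subgroup.normalizer (j.range : Set L) ≤ j.range ⊔ H ∧ ∀ t : T, (∀ h ∈ H, h * j t = j t * h) → t = 1

/-- the conclusion: `F` is the fusion system of a group `G` with `F*(G) ≅ L`, `|G : O²(G)| = 2`, `|O²(G) : F*(G)|` odd. -/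
def ConclL {Ω : Type u} [Group Ω] {S : Subgroup Ω} (F : FusionSystem S) (L : Type) [Group L] : Prop :=
  ∃ (G : Type u) (_ : Group G) (_ : Finite G) (ι : ↥S →* G),
    F.IsRealizedBy ι ∧ (∃ T : Sylow 2 G, (T : Subgroup G) = ι.range) ∧
    Nonempty (↥(Cfsg.generalizedFittingSubgroup G) ≃* L) ∧
    Cfsg.generalizedFittingSubgroup G ≤ Cfsg.pResidual 2 G ∧
    Odd ((Cfsg.generalizedFittingSubgroup G).subgroupOf (Cfsg.pResidual 2 G)).index ∧
    (Cfsg.pResidual 2 G).index = 2

/-- the exact statement of the identification theorem REAL. -/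
def StReal : Prop :=
  ∀ {Ω : Type u} [Group Ω] {S : Subgroup Ω} [Finite S], IsPGroup 2 S →
    ∀ (F : FusionSystem S), F.IsSaturated 2 →
    ∀ (K : Type) [Field K] [Fintype K] (V T : Subgroup Ω) (x : Ω) (b : Big F K V T x),
    (∀ R : Subgroup Ω, F.IsEssential 2 R → R ≤ T) →
    ∀ (L : Type) [Group L] (j : T →* L), IdData F b L j → ConclL F L

/-- `ConclL` for `PSL(3, K)` gives `Concl`. -/
theorem concl_psl {Ω : Type u} [Group Ω] {S : Subgroup Ω} (F : FusionSystem S) (K : Type) [Field K] [Fintype K]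
    (h : ConclL F (Matrix.ProjectiveSpecialLinearGroup (Fin 3) K)) : Concl F := by
  obtain ⟨G, i1, i2, ι, h1, h2, h3, h4, h5, h6⟩ := h
  exact ⟨G, i1, i2, ι, h1, h2, Or.inr (Or.inr (Or.inr (Or.inr (Or.inr ⟨K, inferInstance, inferInstance, Or.inl h3, h4, h5, h6⟩))))⟩

/-- `ConclL` for `PSp(4, K)` gives `Concl`. -/
theorem concl_psp {Ω : Type u} [Group Ω] {S : Subgroup Ω} (F : FusionSystem S) (K : Type) [Field K] [Fintype K] {e : ℕ}
    (he : Odd e) (hK : Fintype.card K = 2 ^ e) (h : ConclL F (Cfsg.PSp 2 K)) : Concl F := by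
  obtain ⟨G, i1, i2, ι, h1, h2, h3, h4, h5, h6⟩ := h
  exact ⟨G, i1, i2, ι, h1, h2, Or.inr (Or.inr (Or.inr (Or.inr (Or.inr ⟨K, inferInstance, inferInstance,
    Or.inr ⟨h3, e, he, hK⟩, h4, h5, h6⟩))))⟩

end Cfsg.Agent.H782.HR
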